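import Groth.Agent.SerreK0Lib.Basic

/-!
# Two-periodic complexes and the kernel on `K₀`
-/

set_option autoImplicit false
set_option backward.isDefEq.respectTransparency false
set_option linter.style.haveILetI false

universe v u

open CategoryTheory CategoryTheory.Limits ZeroObject

noncomputable section

namespace Groth.Agent.SerreK0Lib

variable {A : Type u} [Category.{v} A] [Abelian A]

open KZero (cl clSub)

/-- Componentwise biproduct of short complexes. -/
abbrev sumSC (S T : ShortComplex A) : ShortComplex A :=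
  ShortComplex.mk (biprod.map S.f T.f) (biprod.map S.g T.g) (by ext <;> simp)

/-- Homology of a componentwise biproduct. -/
def sumHomologyIso (S T : ShortComplex A) : (sumSC S T).homology ≅ S.homology ⊞ T.homology :=
  let p₁ : sumSC S T ⟶ S := ShortComplex.homMk biprod.fst biprod.fst biprod.fst (by simp) (by simp)
  let p₂ : sumSC S T ⟶ T := ShortComplex.homMk biprod.snd biprod.snd biprod.snd (by simp) (by simp)
  let i₁ : S ⟶ sumSC S T := ShortComplex.homMk biprod.inl biprod.inl biprod.inl (by simp) (by simp)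
  let i₂ : T ⟶ sumSC S T := ShortComplex.homMk biprod.inr biprod.inr biprod.inr (by simp) (by simp)
  { hom := biprod.lift (ShortComplex.homologyMap p₁) (ShortComplex.homologyMap p₂)
    inv := biprod.desc (ShortComplex.homologyMap i₁) (ShortComplex.homologyMap i₂)
    hom_inv_id := by
      rw [biprod.lift_desc, ← ShortComplex.homologyMap_comp, ← ShortComplex.homologyMap_comp,
        ← ShortComplex.homologyMap_add, ← ShortComplex.homologyMap_id]
      congr 1
      ext : 1 <;> simp [p₁, p₂, i₁, i₂, biprod.total]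
    inv_hom_id := by
      have h11 : i₁ ≫ p₁ = 𝟙 S := by ext : 1 <;> simp [i₁, p₁]
      have h22 : i₂ ≫ p₂ = 𝟙 T := by ext : 1 <;> simp [i₂, p₂]
      have h12 : i₁ ≫ p₂ = 0 := by ext : 1 <;> simp [i₁, p₂]
      have h21 : i₂ ≫ p₁ = 0 := by ext : 1 <;> simp [i₂, p₁]
      ext <;> simp only [Category.assoc, biprod.inl_desc_assoc, biprod.inr_desc_assoc, biprod.lift_fst,
        biprod.lift_snd, Category.comp_id, biprod.inl_fst, biprod.inl_snd, biprod.inr_fst, biprod.inr_snd,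
        ← ShortComplex.homologyMap_comp, h11, h12, h21, h22, ShortComplex.homologyMap_id, ShortComplex.homologyMap_zero] }

/-- There is a two-periodic complex `E₀ ⇄ E₁` with cohomology `X`, `Y`. -/
def Per (X Y E₀ E₁ : A) : Prop :=
  ∃ (d₀ : E₀ ⟶ E₁) (d₁ : E₁ ⟶ E₀) (w₀ : d₀ ≫ d₁ = 0) (w₁ : d₁ ≫ d₀ = 0),
    Nonempty ((ShortComplex.mk d₁ d₀ w₁).homology ≅ X) ∧ Nonempty ((ShortComplex.mk d₀ d₁ w₀).homology ≅ Y)

theorem Per.symm {X Y E₀ E₁ : A} : Per X Y E₀ E₁ → Per Y X E₁ E₀ := fun ⟨d₀, d₁, w₀, w₁, h, h'⟩ =>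
  ⟨d₁, d₀, w₁, w₀, h', h⟩

theorem Per.of_iso {X Y E₀ E₁ X' Y' F₀ F₁ : A} (h : Per X Y E₀ E₁) (eX : X ≅ X') (eY : Y ≅ Y') (e₀ : E₀ ≅ F₀)
    (e₁ : E₁ ≅ F₁) : Per X' Y' F₀ F₁ := by
  obtain ⟨d₀, d₁, w₀, w₁, ⟨hX⟩, ⟨hY⟩⟩ := h
  refine ⟨e₀.inv ≫ d₀ ≫ e₁.hom, e₁.inv ≫ d₁ ≫ e₀.hom, by simp [reassoc_of% w₀], by simp [reassoc_of% w₁], ⟨?_⟩, ⟨?_⟩⟩
  · exact ShortComplex.homologyMapIso (ShortComplex.isoMk e₁.symm e₀.symm e₁.symm (by simp) (by simp)) ≪≫ hX ≪≫ eX
  · exact ShortComplex.homologyMapIso (ShortComplex.isoMk e₀.symm e₁.symm e₀.symm (by simp) (by simp)) ≪≫ hY ≪≫ eY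

theorem Per.biprod {X Y E₀ E₁ X' Y' F₀ F₁ : A} (h : Per X Y E₀ E₁) (h' : Per X' Y' F₀ F₁) :
    Per (X ⊞ X') (Y ⊞ Y') (E₀ ⊞ F₀) (E₁ ⊞ F₁) := by
  obtain ⟨d₀, d₁, w₀, w₁, ⟨hX⟩, ⟨hY⟩⟩ := h
  obtain ⟨c₀, c₁, v₀, v₁, ⟨hX'⟩, ⟨hY'⟩⟩ := h'
  exact ⟨biprod.map d₀ c₀, biprod.map d₁ c₁, by ext <;> simp [reassoc_of% w₀, reassoc_of% v₀],
    by ext <;> simp [reassoc_of% w₁, reassoc_of% v₁],
    ⟨sumHomologyIso (ShortComplex.mk d₁ d₀ w₁) (ShortComplex.mk c₁ c₀ v₁) ≪≫ biprod.mapIso hX hX'⟩,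
    ⟨sumHomologyIso (ShortComplex.mk d₀ d₁ w₀) (ShortComplex.mk c₀ c₁ v₀) ≪≫ biprod.mapIso hY hY'⟩⟩

theorem per_self (X : A) : Per X 0 X 0 :=
  ⟨0, 0, zero_comp, zero_comp,
    ⟨(ShortComplex.HomologyData.ofZeros (ShortComplex.mk (0 : 0 ⟶ X) (0 : X ⟶ 0) zero_comp) rfl rfl).left.homologyIso⟩,
    ⟨(ShortComplex.HomologyData.ofZeros (ShortComplex.mk (0 : X ⟶ 0) (0 : 0 ⟶ X) zero_comp) rfl rfl).left.homologyIso⟩⟩

/-- A short exact sequence gives an exact periodic complex. -/
theorem per_shortExact {S : ShortComplex A} (hS : S.ShortExact) : Per 0 0 (S.X₁ ⊞ S.X₃) S.X₂ := by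
  haveI := hS.mono_f
  haveI := hS.epi_g
  refine ⟨biprod.fst ≫ S.f, S.g ≫ biprod.inr, by simp, by simp, ⟨IsZero.isoZero ?_⟩, ⟨IsZero.isoZero ?_⟩⟩
  · rw [← ShortComplex.exact_iff_isZero_homology, ShortComplex.exact_iff_exact_up_to_refinements]
    intro T x hx
    have h1 : x ≫ biprod.fst = 0 := by
      refine (cancel_mono S.f).1 (Eq.trans ?_ zero_comp.symm)
      exact (Category.assoc _ _ _).trans hx
    obtain ⟨T', π, hπ, y, hy⟩ := surjective_up_to_refinements_of_epi S.g (x ≫ biprod.snd)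
    refine ⟨T', π, hπ, y, ?_⟩
    dsimp
    ext
    · simp [h1]
    · simp [← hy]
  · rw [← ShortComplex.exact_iff_isZero_homology, ShortComplex.exact_iff_exact_up_to_refinements]
    intro T x hx
    have h1 : x ≫ S.g = 0 := by
      refine (cancel_mono (biprod.inr : S.X₃ ⟶ S.X₁ ⊞ S.X₃)).1 (Eq.trans ?_ zero_comp.symm)
      exact (Category.assoc _ _ _).trans hx
    exact ⟨T, 𝟙 T, inferInstance, hS.exact.lift x h1 ≫ biprod.inl, by simp⟩

/-- Iterated biproduct. -/
def bsum : List A → A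
  | [] => 0
  | X :: l => X ⊞ bsum l

theorem bsum_perm {l m : List A} (h : l.Perm m) : Nonempty (bsum l ≅ bsum m) := by
  induction h with
  | nil => exact ⟨Iso.refl _⟩
  | cons X _ ih => exact ⟨biprod.mapIso (Iso.refl X) ih.some⟩
  | swap X Y l => exact ⟨(biprod.associator Y X (bsum l)).symm ≪≫
      biprod.mapIso (biprod.braiding Y X) (Iso.refl _) ≪≫ biprod.associator X Y (bsum l)⟩
  | trans _ _ ih ih' => exact ⟨ih.some ≪≫ ih'.some⟩

theorem bsum_append : ∀ l m : List A, Nonempty (bsum (l ++ m) ≅ bsum l ⊞ bsum m)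
  | [], m => ⟨isoZeroBiprod (isZero_zero A)⟩
  | X :: l, m => ⟨biprod.mapIso (Iso.refl X) (bsum_append l m).some ≪≫ (biprod.associator X (bsum l) (bsum m)).symm⟩

/-- The ends of a list of sequences. -/
def ends : List {S : ShortComplex A // S.ShortExact} → List A
  | [] => []
  | S :: l => S.1.X₁ :: S.1.X₃ :: ends l

theorem per_list : ∀ l : List {S : ShortComplex A // S.ShortExact},
    Per 0 0 (bsum (ends l)) (bsum (l.map fun S => S.1.X₂))
  | [] => per_self (0 : A)
  | S :: l => ((per_shortExact S.2).biprod (per_list l)).of_iso (isoZeroBiprod (isZero_zero A)).symm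
      (isoZeroBiprod (isZero_zero A)).symm (biprod.associator _ _ _) (Iso.refl _)

theorem perm_of_sum_eq {α : Type*} {l m : List α}
    (h : (l.map FreeAbelianGroup.of).sum = (m.map FreeAbelianGroup.of).sum) : l.Perm m := by
  classical
  refine List.perm_iff_count.2 fun a => ?_
  have key : ∀ l : List α, FreeAbelianGroup.lift (fun b => if b = a then (1 : ℤ) else 0)
      (l.map FreeAbelianGroup.of).sum = (l.count a : ℤ) := by
    intro l
    induction l with
    | nil => simp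
    | cons b l ih =>
      rw [List.map_cons, List.sum_cons, map_add, ih, FreeAbelianGroup.lift_apply_of, List.count_cons]
      by_cases hb : b = a
      · simp [hb, add_comm]
      · simp [hb]
  exact_mod_cast (key l).symm.trans ((congrArg _ h).trans (key m))

/-- The relation of a list. -/
def relSum (l : List {S : ShortComplex A // S.ShortExact}) : FreeAbelianGroup A :=
  ((l.map fun S => S.1.X₂).map FreeAbelianGroup.of).sum - ((ends l).map FreeAbelianGroup.of).sum

theorem ends_append : ∀ l m : List {S : ShortComplex A // S.ShortExact}, ends (l ++ m) = ends l ++ ends m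
  | [], _ => rfl
  | S :: l, m => by simp [ends, ends_append l m]

theorem exists_relSum {x : FreeAbelianGroup A} (hx : x ∈ KZero.relAb A) :
    ∃ l m, x = relSum l - relSum m := by
  induction hx using AddSubgroup.closure_induction with
  | mem x hx =>
    obtain ⟨S, hS, rfl⟩ := hx
    refine ⟨[⟨S, hS⟩], [], ?_⟩
    simp [relSum, ends]
    abel
  | zero => exact ⟨[], [], by simp⟩
  | add x y _ _ hx hy =>
    obtain ⟨l, m, rfl⟩ := hx
    obtain ⟨l', m', rfl⟩ := hy
    refine ⟨l ++ l', m ++ m', ?_⟩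
    simp [relSum, ends_append]
    abel
  | neg x _ hx =>
    obtain ⟨l, m, rfl⟩ := hx
    exact ⟨m, l, by abel⟩

/-- Equal classes come from a periodic complex on a single object. -/
theorem exists_periodic {X Y : A} (h : cl X = cl Y) : ∃ M : A, Per X Y M M := by
  have h1 : FreeAbelianGroup.of X - FreeAbelianGroup.of Y ∈ KZero.relAb A := by
    rw [← QuotientAddGroup.eq_zero_iff, QuotientAddGroup.mk_sub]
    exact sub_eq_zero.2 h
  obtain ⟨l, m, hlm⟩ := exists_relSum h1
  let E₀ := X :: (ends l ++ m.map fun S => S.1.X₂)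
  let E₁ := Y :: ((l.map fun S => S.1.X₂) ++ ends m)
  have hp : E₀.Perm E₁ := perm_of_sum_eq (by
    simp only [E₀, E₁, List.map_cons, List.map_append, List.sum_cons, List.sum_append]
    rw [sub_eq_iff_eq_add] at hlm
    rw [hlm, relSum, relSum]
    abel)
  have z : (0 : A) ≅ (0 : A) ⊞ 0 := isoZeroBiprod (isZero_zero A)
  have hlist : Per 0 0 (bsum (ends l ++ m.map fun S => S.1.X₂)) (bsum ((l.map fun S => S.1.X₂) ++ ends m)) :=
    ((per_list l).biprod (per_list m).symm).of_iso z.symm z.symm (bsum_append _ _).some.symm (bsum_append _ _).some.symm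
  have hbase : Per X Y (X ⊞ (0 : A)) ((0 : A) ⊞ Y) :=
    ((per_self X).biprod (per_self Y).symm).of_iso (isoBiprodZero (isZero_zero A)).symm
      (isoZeroBiprod (isZero_zero A)).symm (Iso.refl _) (Iso.refl _)
  have hall : Per X Y (bsum E₀) (bsum E₁) :=
    (hbase.biprod hlist).of_iso (isoBiprodZero (isZero_zero A)).symm (isoBiprodZero (isZero_zero A)).symm
      (biprod.mapIso (isoBiprodZero (isZero_zero A)).symm (Iso.refl _))
      (biprod.mapIso (isoZeroBiprod (isZero_zero A)).symm (Iso.refl _))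
  exact ⟨bsum E₀, hall.of_iso (Iso.refl _) (Iso.refl _) (Iso.refl _) (bsum_perm hp).some.symm⟩

theorem cl_homology_sub {M : A} (φ ψ : M ⟶ M) (h₁ : φ ≫ ψ = 0) (h₂ : ψ ≫ φ = 0) :
    cl (ShortComplex.mk φ ψ h₁).homology = cl (ShortComplex.mk ψ φ h₂).homology := by
  have key : ∀ (a b : M ⟶ M) (w : a ≫ b = 0),
      cl (ShortComplex.mk a b w).homology = cl (kernel b) - cl (Abelian.image a) := by
    intro a b w
    let S := ShortComplex.mk a b w
    let j : Abelian.image a ⟶ kernel b := kernel.lift b (Abelian.image.ι a) (by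
      rw [← cancel_epi (Abelian.factorThruImage a), ← Category.assoc, Abelian.image.fac, w, comp_zero])
    have hk : kernel.lift b a w = Abelian.factorThruImage a ≫ j := by
      rw [← cancel_mono (kernel.ι b)]
      simp [j]
    haveI : Mono j := mono_of_mono_fac (kernel.lift_ι b _ _)
    have h := cl_add (S := ShortComplex.mk j (cokernel.π j) (cokernel.condition j))
      { exact := ShortComplex.exact_of_g_is_cokernel _ (cokernelIsCokernel j)
        mono_f := inferInstance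
        epi_g := inferInstance }
    dsimp only at h
    rw [h, add_sub_cancel_left]
    exact cl_iso (S.homologyIsoCokernelLift ≪≫ cokernelIsoOfEq hk ≪≫ cokernelEpiComp _ _)
  rw [key φ ψ h₁, key ψ φ h₂]
  have a := cl_add (shortExact_kernel ψ)
  have b := cl_add (shortExact_kernel φ)
  dsimp only at a b
  rw [eq_sub_of_add_eq a.symm, eq_sub_of_add_eq b.symm]
  abel

variable (P : ObjectProperty A) [P.IsSerreClass]

/-- The kernel of the inclusion on `K₀`. -/
theorem iota_eq_zero_iff (x : KZero.K0sub P) : iota P x = 0 ↔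
    ∃ (M : A) (φ ψ : M ⟶ M) (h₁ : φ ≫ ψ = 0) (h₂ : ψ ≫ φ = 0),
      P (ShortComplex.mk φ ψ h₁).homology ∧ P (ShortComplex.mk ψ φ h₂).homology ∧
      x = clSub P (ShortComplex.mk φ ψ h₁).homology - clSub P (ShortComplex.mk ψ φ h₂).homology := by
  constructor
  · intro hx
    obtain ⟨X, Y, hX, hY, rfl⟩ := exists_clSub P x
    rw [map_sub, iota_clSub P hX, iota_clSub P hY, sub_eq_zero] at hx
    obtain ⟨M, d₀, d₁, w₀, w₁, ⟨eX⟩, ⟨eY⟩⟩ := exists_periodic hx
    exact ⟨M, d₁, d₀, w₁, w₀, P.prop_of_iso eX.symm hX, P.prop_of_iso eY.symm hY, by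
      rw [clSub_iso P eX.symm hX, clSub_iso P eY.symm hY]⟩
  · rintro ⟨M, φ, ψ, h₁, h₂, hφ, hψ, rfl⟩
    rw [map_sub, iota_clSub P hφ, iota_clSub P hψ, cl_homology_sub φ ψ h₁ h₂, sub_self]

end Groth.Agent.SerreK0Lib
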