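import Groth.Prelude.Def_KZero
import Mathlib.CategoryTheory.Abelian.SerreClass.Localization
import Mathlib.CategoryTheory.Abelian.Refinements
import Mathlib.Algebra.Homology.ShortComplex.Preadditive
import Mathlib.Algebra.Homology.ShortComplex.ExactFunctor

/-!
# The localisation sequence of a Serre class on `K₀`
-/

set_option autoImplicit false
set_option backward.isDefEq.respectTransparency false
set_option linter.style.haveILetI false

universe v u v' u'

open CategoryTheory CategoryTheory.Limits ZeroObject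

noncomputable section

namespace Groth.Agent.SerreK0Lib

variable {A : Type u} [Category.{v} A] [Abelian A]

open KZero (cl clSub)

theorem cl_add {S : ShortComplex A} (hS : S.ShortExact) : cl S.X₂ = cl S.X₁ + cl S.X₃ := by
  rw [cl, cl, cl, ← QuotientAddGroup.mk_add, QuotientAddGroup.eq]
  refine neg_mem_iff.1 (AddSubgroup.subset_closure ⟨S, hS, ?_⟩)
  abel

theorem cl_zero {X : A} (h : IsZero X) : cl X = 0 := by
  have hS : (ShortComplex.mk (0 : X ⟶ X) (0 : X ⟶ X) zero_comp).ShortExact :=
    { exact := ShortComplex.exact_of_isZero_X₂ _ h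
      mono_f := ⟨fun _ _ _ => h.eq_of_tgt _ _⟩
      epi_g := ⟨fun _ _ _ => h.eq_of_src _ _⟩ }
  simpa using cl_add hS

theorem shortExact_iso {X Y : A} (e : X ≅ Y) :
    (ShortComplex.mk (0 : (0 : A) ⟶ X) e.hom zero_comp).ShortExact :=
  { exact := by
      rw [ShortComplex.exact_iff_mono _ rfl]
      show Mono e.hom
      infer_instance
    mono_f := ⟨fun _ _ _ => (isZero_zero A).eq_of_tgt _ _⟩
    epi_g := inferInstanceAs (Epi e.hom) }

theorem cl_iso {X Y : A} (e : X ≅ Y) : cl X = cl Y := by
  simpa [cl_zero (isZero_zero A)] using cl_add (shortExact_iso e)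

theorem shortExact_kernel {X Y : A} (f : X ⟶ Y) :
    (ShortComplex.mk (kernel.ι f) (Abelian.factorThruImage f)
      ((cancel_mono (Abelian.image.ι f)).1 (by simp))).ShortExact :=
  { exact := ShortComplex.exact_of_f_is_kernel _ (KernelFork.IsLimit.ofι _ _
      (fun y hy => kernel.lift f y (by rw [← Abelian.image.fac f, reassoc_of% hy, zero_comp]))
      (fun y hy => kernel.lift_ι _ _ _)
      (fun y hy m hm => (cancel_mono (kernel.ι f)).1 (by simpa using hm)))
    mono_f := inferInstance
    epi_g := inferInstance }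

theorem shortExact_coker {X Y : A} (f : X ⟶ Y) :
    (ShortComplex.mk (Abelian.image.ι f) (cokernel.π f) (kernel.condition _)).ShortExact :=
  { exact := ShortComplex.exact_of_f_is_kernel _ (kernelIsKernel _)
    mono_f := inferInstance
    epi_g := inferInstance }

theorem cl_sub {X Y : A} (f : X ⟶ Y) : cl X - cl Y = cl (kernel f) - cl (cokernel f) := by
  rw [show cl X = _ from cl_add (shortExact_kernel f), show cl Y = _ from cl_add (shortExact_coker f)]
  abel

variable (P : ObjectProperty A) [P.IsSerreClass]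

theorem clSub_of {X : A} (h : P X) :
    clSub P X = QuotientAddGroup.mk (FreeAbelianGroup.of (⟨X, h⟩ : Subtype P)) := dif_pos h

theorem clSub_add {S : ShortComplex A} (hS : S.ShortExact) (h₁ : P S.X₁) (h₂ : P S.X₂)
    (h₃ : P S.X₃) : clSub P S.X₂ = clSub P S.X₁ + clSub P S.X₃ := by
  rw [clSub_of P h₁, clSub_of P h₂, clSub_of P h₃, ← QuotientAddGroup.mk_add, QuotientAddGroup.eq]
  refine neg_mem_iff.1 (AddSubgroup.subset_closure ⟨S, h₁, h₂, h₃, hS, ?_⟩)
  abel

theorem clSub_zero {X : A} (h : IsZero X) : clSub P X = 0 := by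
  have hX : P X := P.prop_of_isZero h
  have hS : (ShortComplex.mk (0 : X ⟶ X) (0 : X ⟶ X) zero_comp).ShortExact :=
    { exact := ShortComplex.exact_of_isZero_X₂ _ h
      mono_f := ⟨fun _ _ _ => h.eq_of_tgt _ _⟩
      epi_g := ⟨fun _ _ _ => h.eq_of_src _ _⟩ }
  simpa using clSub_add P hS hX hX hX

theorem clSub_iso {X Y : A} (e : X ≅ Y) (hX : P X) : clSub P X = clSub P Y := by
  simpa [clSub_zero P (isZero_zero A)] using
    clSub_add P (shortExact_iso e) (P.prop_of_isZero (isZero_zero A)) hX (P.prop_of_iso e hX)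

theorem shortExact_biprod (X Y : A) :
    (ShortComplex.mk (biprod.inl : X ⟶ X ⊞ Y) biprod.snd (by simp)).ShortExact :=
  (ShortComplex.Splitting.ofHasBinaryBiproduct X Y).shortExact

theorem exists_clSub (x : KZero.K0sub P) : ∃ X Y : A, P X ∧ P Y ∧ x = clSub P X - clSub P Y := by
  obtain ⟨y, rfl⟩ := QuotientAddGroup.mk_surjective x
  have h0 : P (0 : A) := P.prop_of_isZero (isZero_zero A)
  induction y using FreeAbelianGroup.induction_on with
  | zero => exact ⟨0, 0, h0, h0, by simp⟩
  | of X => exact ⟨X.1, 0, X.2, h0, by rw [clSub_zero P (isZero_zero A), sub_zero, clSub_of P X.2]⟩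
  | neg X _ => exact ⟨0, X.1, h0, X.2, by
      rw [clSub_zero P (isZero_zero A), zero_sub, clSub_of P X.2]; rfl⟩
  | add a b ha hb =>
    obtain ⟨X, Y, hX, hY, h₁⟩ := ha
    obtain ⟨X', Y', hX', hY', h₂⟩ := hb
    have hXX := P.prop_X₂_of_shortExact (shortExact_biprod X X') hX hX'
    have hYY := P.prop_X₂_of_shortExact (shortExact_biprod Y Y') hY hY'
    refine ⟨X ⊞ X', Y ⊞ Y', hXX, hYY, ?_⟩
    rw [QuotientAddGroup.mk_add, h₁, h₂, show clSub P (X ⊞ X') = _ from clSub_add P (shortExact_biprod X X') hX hXX hX',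
      show clSub P (Y ⊞ Y') = _ from clSub_add P (shortExact_biprod Y Y') hY hYY hY']
    abel

/-- The map induced by the inclusion. -/
def iota : KZero.K0sub P →+ KZero.K0 A :=
  QuotientAddGroup.lift _ (FreeAbelianGroup.lift fun X : Subtype P => cl X.1) <| by
    rw [KZero.relSub, AddSubgroup.closure_le]
    rintro x ⟨S, h₁, h₂, h₃, hS, rfl⟩
    simp only [SetLike.mem_coe, AddMonoidHom.mem_ker, map_sub, FreeAbelianGroup.lift_apply_of, cl_add hS]
    abel

theorem iota_clSub {X : A} (h : P X) : iota P (clSub P X) = cl X := by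
  rw [clSub_of P h]
  exact FreeAbelianGroup.lift_apply_of _ _

section Localization

variable {Q : Type u'} [Category.{v'} Q] [Abelian Q]
variable (L : A ⥤ Q) [L.IsLocalization P.isoModSerre] [L.Additive] [PreservesFiniteLimits L] [PreservesFiniteColimits L]

/-- The map induced by the localisation. -/
def lam : KZero.K0 A →+ KZero.K0 Q :=
  QuotientAddGroup.lift _ (FreeAbelianGroup.lift fun X : A => cl (L.obj X)) <| by
    rw [KZero.relAb, AddSubgroup.closure_le]
    rintro x ⟨S, hS, rfl⟩
    simp only [SetLike.mem_coe, AddMonoidHom.mem_ker, map_sub, FreeAbelianGroup.lift_apply_of]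
    rw [show cl (L.obj S.X₂) = _ from cl_add (hS.map_of_exact L)]
    show cl (L.obj S.X₁) + cl (L.obj S.X₃) - cl (L.obj S.X₁) - cl (L.obj S.X₃) = 0
    abel

theorem lam_cl (X : A) : lam L (cl X) = cl (L.obj X) :=
  FreeAbelianGroup.lift_apply_of _ _

include P in
theorem lam_surjective : Function.Surjective (lam L) := fun y => by
  obtain ⟨z, rfl⟩ := QuotientAddGroup.mk_surjective y
  haveI := Localization.essSurj L P.isoModSerre
  induction z using FreeAbelianGroup.induction_on with
  | zero => exact ⟨0, map_zero _⟩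
  | of X => exact ⟨cl (L.objPreimage X), (lam_cl L _).trans (cl_iso (L.objObjPreimageIso X))⟩
  | neg X h =>
    obtain ⟨a, ha⟩ := h
    exact ⟨-a, by rw [map_neg, ha]; rfl⟩
  | add a b ha hb =>
    obtain ⟨a', ha⟩ := ha
    obtain ⟨b', hb⟩ := hb
    exact ⟨a' + b', by rw [map_add, ha, hb]; rfl⟩

theorem sub_mem_range_of_isIso {X Y : A} (f : X ⟶ Y) [IsIso (L.map f)] :
    cl X - cl Y ∈ (iota P).range := by
  have hk : P (kernel f) := (ObjectProperty.SerreClassLocalization.mono_map_iff L P f).1 inferInstance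
  have hc : P (cokernel f) := (ObjectProperty.SerreClassLocalization.epi_map_iff L P f).1 inferInstance
  exact ⟨clSub P (kernel f) - clSub P (cokernel f), by rw [map_sub, iota_clSub P hk, iota_clSub P hc, cl_sub f]⟩

theorem sub_mem_range_of_iso {X Y : A} (e : L.obj X ≅ L.obj Y) : cl X - cl Y ∈ (iota P).range := by
  obtain ⟨φ, hφ⟩ := Localization.exists_leftFraction L P.isoModSerre e.hom
  haveI := Localization.inverts L P.isoModSerre φ.s φ.hs
  have h1 : L.map φ.f = e.hom ≫ L.map φ.s := by rw [hφ, MorphismProperty.LeftFraction.map_comp_map_s]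
  haveI : IsIso (L.map φ.f) := h1 ▸ inferInstance
  have := sub_mem (sub_mem_range_of_isIso P L φ.f) (sub_mem_range_of_isIso P L φ.s)
  rwa [sub_sub_sub_cancel_right] at this

theorem pre_add {S : ShortComplex Q} (hS : S.ShortExact) (X₁ X₂ X₃ : A) (e₁ : L.obj X₁ ≅ S.X₁)
    (e₂ : L.obj X₂ ≅ S.X₂) (e₃ : L.obj X₃ ≅ S.X₃) : cl X₂ - cl X₁ - cl X₃ ∈ (iota P).range := by
  haveI := hS.mono_f
  haveI := hS.epi_g
  obtain ⟨φ, hφ⟩ := Localization.exists_rightFraction L P.isoModSerre (e₂.hom ≫ S.g ≫ e₃.inv)
  haveI := Localization.inverts L P.isoModSerre φ.s φ.hs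
  have hf : L.map φ.f = (L.map φ.s ≫ e₂.hom) ≫ S.g ≫ e₃.inv := by
    rw [Category.assoc, hφ, MorphismProperty.RightFraction.map_s_comp_map]
  haveI : Epi (L.map φ.f) := hf ▸ inferInstance
  have hc : P (cokernel φ.f) := (ObjectProperty.SerreClassLocalization.epi_map_iff L P φ.f).1 inferInstance
  let ek : L.obj (kernel φ.f) ≅ L.obj X₁ := PreservesKernel.iso L φ.f ≪≫
    kernel.mapIso (L.map φ.f) S.g (asIso (L.map φ.s) ≪≫ e₂) e₃ (by simp [hf]) ≪≫
      ((kernelIsKernel S.g).conePointUniqueUpToIso hS.fIsKernel) ≪≫ e₁.symm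
  have h1 : cl X₂ - cl φ.X' ∈ (iota P).range := by
    have := neg_mem (sub_mem_range_of_isIso P L φ.s)
    rwa [neg_sub] at this
  have h2 : cl (cokernel φ.f) ∈ (iota P).range := ⟨clSub P _, iota_clSub P hc⟩
  have h3 := sub_mem_range_of_iso P L ek
  have := sub_mem (add_mem h1 h3) h2
  have h4 := cl_sub φ.f
  convert this using 1
  rw [show cl φ.X' = cl (kernel φ.f) - cl (cokernel φ.f) + cl X₃ from by rw [← h4]; abel]
  abel

theorem lam_ker : (lam L).ker = (iota P).range := by
  haveI := Localization.essSurj L P.isoModSerre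
  refine le_antisymm (fun x hx => ?_) ?_
  · let back : KZero.K0 Q →+ KZero.K0 A ⧸ (iota P).range :=
      QuotientAddGroup.lift _ (FreeAbelianGroup.lift fun X : Q => QuotientAddGroup.mk (cl (L.objPreimage X))) <| by
        rw [KZero.relAb, AddSubgroup.closure_le]
        rintro y ⟨S, hS, rfl⟩
        simp only [SetLike.mem_coe, AddMonoidHom.mem_ker, map_sub, FreeAbelianGroup.lift_apply_of,
          ← QuotientAddGroup.mk_sub, QuotientAddGroup.eq_zero_iff]
        exact pre_add P L hS _ _ _ (L.objObjPreimageIso _) (L.objObjPreimageIso _) (L.objObjPreimageIso _)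
    have h : back.comp (lam L) = QuotientAddGroup.mk' (iota P).range := by
      refine QuotientAddGroup.addMonoidHom_ext _ (FreeAbelianGroup.lift_ext _ _ fun X => ?_)
      show back (lam L (cl X)) = QuotientAddGroup.mk (cl X)
      rw [lam_cl]
      show FreeAbelianGroup.lift _ (FreeAbelianGroup.of (L.obj X)) = _
      rw [FreeAbelianGroup.lift_apply_of, ← sub_eq_zero, ← QuotientAddGroup.mk_sub, QuotientAddGroup.eq_zero_iff]
      exact sub_mem_range_of_iso P L (L.objObjPreimageIso (L.obj X))
    rw [← QuotientAddGroup.eq_zero_iff]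
    have := DFunLike.congr_fun h x
    rw [AddMonoidHom.comp_apply, show lam L x = 0 from hx, map_zero] at this
    exact this.symm
  · rintro _ ⟨x, rfl⟩
    obtain ⟨X, Y, hX, hY, rfl⟩ := exists_clSub P x
    rw [AddMonoidHom.mem_ker, map_sub, map_sub, iota_clSub P hX, iota_clSub P hY, lam_cl, lam_cl,
      cl_zero ((ObjectProperty.SerreClassLocalization.isZero_obj_iff L P X).2 hX),
      cl_zero ((ObjectProperty.SerreClassLocalization.isZero_obj_iff L P Y).2 hY), sub_zero]

end Localization

end Groth.Agent.SerreK0Lib
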